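import Cfsg.Agent.Lib.Comp.Sp6x.Main
import Cfsg.Agent.Lib.MatB.Fam
import Cfsg.Agent.Lib.Forms.Symp

set_option maxRecDepth 100000
set_option Elab.async false

namespace Cfsg.Lib.Comp.Sp6x

open Cfsg.Lib.MatB Matrix

universe u

def mT0 : List ℕ := [nat_lit 0x1, nat_lit 0x20, nat_lit 0x400, nat_lit 0x8000, nat_lit 0x100000, nat_lit 0x2000000]
def mT1 : List ℕ := [nat_lit 0x1, nat_lit 0x100000, nat_lit 0x400, nat_lit 0x8000, nat_lit 0x20, nat_lit 0x2000000]
def mT2 : List ℕ := [nat_lit 0x1, nat_lit 0x2100021, nat_lit 0x2100401, nat_lit 0x2108001, nat_lit 0x100000, nat_lit 0x2000000]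
def mT3 : List ℕ := [nat_lit 0x2108420, nat_lit 0x2108401, nat_lit 0x2108021, nat_lit 0x2100421, nat_lit 0x2008421, nat_lit 0x108421]
def mT4 : List ℕ := [nat_lit 0x1, nat_lit 0x20, nat_lit 0x400, nat_lit 0x8401, nat_lit 0x100000, nat_lit 0x2000401]
def mT5 : List ℕ := [nat_lit 0x2008401, nat_lit 0x20, nat_lit 0x2008000, nat_lit 0x8000, nat_lit 0x100000, nat_lit 0x8400]
def mT6 : List ℕ := [nat_lit 0x1, nat_lit 0x20, nat_lit 0x2000401, nat_lit 0x2008001, nat_lit 0x100000, nat_lit 0x2000000]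
def mT7 : List ℕ := [nat_lit 0x1, nat_lit 0x100401, nat_lit 0x400, nat_lit 0x108421, nat_lit 0x421, nat_lit 0x2100421]

def mtabs : List (List ℕ) := [mT0, mT1, mT2, mT3, mT4, mT5, mT6, mT7]

noncomputable def mtab : ℕ → List ℕ := nth mT0 mtabs

def mrd (v : ℕ) : ℕ := Nat.land v (nat_lit 0x2108421)

theorem mctx : Ctx 5 2 6 6 (0 : (ZMod 2)) (eSum 3 3) mrd :=
  ⟨by decide +kernel, by decide +kernel, by decide +kernel, Or.inr ⟨rfl, rfl⟩, by decide +kernel, by norm_num, by norm_num,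
    fun v => (congrArg (Nat.land v) (by decide +kernel : nat_lit 0x2108421 = rep 5 6)).trans (land_rep (by norm_num) 6 v)⟩

theorem mok : ∀ x, TabOK 5 6 6 (0 : (ZMod 2)) mrd (mtab x) := tabOK_nth (by decide +kernel)

noncomputable abbrev mM (x : ℕ) : Matrix (Fin 3 ⊕ Fin 3) (Fin 3 ⊕ Fin 3) (ZMod 2) := tm 5 6 (0 : (ZMod 2)) (eSum 3 3) (mtab x)

noncomputable def mR : List (List ℕ × ℕ) := apd R (L.map fun x => ([x, iv x], 0))

theorem mside : SideOK iv R mR L := by decide +kernel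

theorem mrel : relB 5 6 mrd mtab [0] mR = true := by decide +kernel

theorem msp : ∀ x ∈ L, mM x * Matrix.J (Fin 3) (ZMod 2) * (mM x)ᵀ = Matrix.J (Fin 3) (ZMod 2) := by decide +kernel

theorem iso {F : Type u} [Field F] [Fintype F] (hF : Fintype.card F = 2) : Nonempty (cl (gp nets) L ≃* PSp 3 F) := by
  obtain ⟨φ⟩ := hom2 hF
  have := simple
  have := nets_ok.finite L
  refine bridge_proj nets_iv nets_rel ord card mside φ φ.injective (symplecticGroup (Fin 3) F).subtype
    Subtype.val_injective (M := mM) (fun x hx => sp_mem φ (msp x hx)) (by decide +kernel) (mctx.rel mok mrel)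
    (x := 1) (y := 2) (by decide) (by decide) (i := .inl 1) (j := .inl 0) (by decide +kernel) ?_
  have h := Forms.gcd_mul_card_PSp (F := F) (m := 3) (by norm_num)
  rw [Nat.card_eq_fintype_card (α := F), hF] at h
  simpa [Forms.spOrder, Finset.prod_range_succ] using h

end Cfsg.Lib.Comp.Sp6x
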