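import Cfsg.Agent.Lib.Comp.Sp6x.Mu0
import Cfsg.Agent.Lib.Comp.Sp6x.Main
import Cfsg.Agent.Lib.Comp.Cover

set_option maxRecDepth 100000
set_option Elab.async false

namespace Cfsg.Lib.Comp.Sp6x

universe u

theorem Mu_mb : MB (cl (gp nets) L) 420 2 :=
  mb_cyc (w := 26) (n := 29) (La := L) (ix := nth 0 [0,0,1,3,6,10,15,21]) (by norm_num) (by norm_num) (nets_iv.sval _) (nets_rel.sval fun r hr x hx => mem_cl (sub_of_allR (by decide +kernel) r hr x hx)) (by decide +kernel)
    (TStep.trans (TStep.trans (TStep.trans (TStep.trans (TStep.trans (TStep.trans (TStep.trans (TStep.trans (TStep.trans (TStep.trans (TStep.trans (TStep.trans (TStep.trans (TStep.trans (TStep.trans (TStep.trans (TStep.repar (k' := 22) (by norm_num) (by norm_num) (by decide +kernel) (by decide +kernel) Mu1_b)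
    (TStep.repar (k' := 22) (by norm_num) (by norm_num) (by decide +kernel) (by decide +kernel) Mu2_b))
    (TStep.enum0 (by norm_num) (by norm_num) Mu3_0 (Gs := Mu3G) (by decide +kernel)))
    (TStep.repar (k' := 22) (by norm_num) (by norm_num) (by decide +kernel) (by decide +kernel) Mu4_b))
    (TStep.enum0 (by norm_num) (by norm_num) Mu5_0 (Gs := Mu5G) (by decide +kernel)))
    (TStep.repar (k' := 21) (by norm_num) (by norm_num) (by decide +kernel) (by decide +kernel) Mu6_b))
    (TStep.enum0 (by norm_num) (by norm_num) Mu7_0 (Gs := Mu7G) (by decide +kernel)))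
    (TStep.repar (k' := 20) (by norm_num) (by norm_num) (by decide +kernel) (by decide +kernel) Mu8_b))
    (TStep.enum0 (by norm_num) (by norm_num) Mu9_0 (Gs := Mu9G) (by decide +kernel)))
    (TStep.repar (k' := 15) (by norm_num) (by norm_num) (by decide +kernel) (by decide +kernel) Mu10_b))
    (TStep.enum0 (by norm_num) (by norm_num) Mu11_0 (Gs := Mu11G) (by decide +kernel)))
    (TStep.repar (k' := 8) (by norm_num) (by norm_num) (by decide +kernel) (by decide +kernel) Mu12_b))
    (TStep.enum0 (by norm_num) (by norm_num) Mu13_0 (Gs := Mu13G) (by decide +kernel)))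
    (TStep.repar (k' := 2) (by norm_num) (by norm_num) (by decide +kernel) (by decide +kernel) Mu14_b))
    (TStep.enum0 (by norm_num) (by norm_num) Mu15_0 (Gs := Mu15G) (by decide +kernel)))
    (TStep.repar (k' := 1) (by norm_num) (by norm_num) (by decide +kernel) (by decide +kernel) Mu16_b))
    (TStep.cons (by norm_num) (by norm_num) (c := (nat_lit 0x1)) (v := 2) (by decide +kernel) (by decide +kernel)))
    (by norm_num) List.mem_cons_self (by norm_num)
    (TStep.repar (k' := 0) (by norm_num) (by norm_num) (by decide +kernel) (by decide +kernel) Mu18_b)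
    (L := [1,2,3,4,5,6,7]) (I := [0,1,2,3,4,5,6,7,8,9,10,11,12,13,14,15,16,17,18,19,20,21,22,23,24,25,26,27,28]) (by decide +kernel) (by decide +kernel) ord card.ge (cl_sval_top _ _)

end Cfsg.Lib.Comp.Sp6x
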