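import Cfsg.Agent.Lib.Comp.Sp6x.Base

set_option maxRecDepth 100000
set_option Elab.async false

namespace Cfsg.Lib.Comp.Sp6x

universe u

noncomputable def nets_1 : Net :=
 (Net.cons 2 (nat_lit 0x200)
 (Net.cons 1 (nat_lit 0x4444440)
 (Net.cons 2 (nat_lit 0x200)
 Net.nil)))

noncomputable def nets_2 : Net :=
 (Net.cons 16 (nat_lit 0x8000)
 (Net.cons 8 (nat_lit 0xa00000)
 (Net.cons 4 (nat_lit 0xa0000)
 (Net.cons 2 (nat_lit 0x20000)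
 (Net.cons 1 (nat_lit 0x10000)
 (Net.cons 2 (nat_lit 0x22220120)
 (Net.cons 4 (nat_lit 0xa0000)
 (Net.cons 8 (nat_lit 0xa00000)
 (Net.cons 16 (nat_lit 0x8000)
 Net.nil)))))))))

noncomputable def nets_3 : Net :=
 (Net.cons 16 (nat_lit 0xc000)
 (Net.cons 8 (nat_lit 0xc00000)
 (Net.cons 2 (nat_lit 0x200)
 (Net.cons 1 (nat_lit 0x1540110)
 (Net.cons 2 (nat_lit 0x200)
 (Net.cons 4 (nat_lit 0xc0000)
 (Net.cons 8 (nat_lit 0xc00000)
 (Net.cons 16 (nat_lit 0xc000)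
 Net.nil))))))))

noncomputable def nets_4 : Net :=
 (Net.cons 16 (nat_lit 0x3000)
 (Net.cons 8 (nat_lit 0xc0)
 (Net.cons 4 (nat_lit 0x800)
 (Net.cons 1 (nat_lit 0x11110000)
 (Net.cons 2 (nat_lit 0x200)
 (Net.cons 4 (nat_lit 0x3030c00)
 (Net.cons 8 (nat_lit 0x3300c0)
 (Net.cons 16 (nat_lit 0x3000)
 Net.nil))))))))

noncomputable def nets_5 : Net :=
 (Net.cons 16 (nat_lit 0xe000)
 (Net.cons 8 (nat_lit 0x220018)
 (Net.cons 4 (nat_lit 0x800)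
 (Net.cons 2 (nat_lit 0x2000)
 (Net.cons 1 (nat_lit 0x111004)
 (Net.cons 2 (nat_lit 0x2000)
 (Net.cons 4 (nat_lit 0xc000800)
 (Net.cons 8 (nat_lit 0x220018)
 (Net.cons 16 (nat_lit 0xe000)
 Net.nil)))))))))

noncomputable def nets_6 : Net :=
 (Net.cons 16 (nat_lit 0xf00)
 (Net.cons 8 (nat_lit 0xf00030)
 (Net.cons 4 (nat_lit 0x2)
 (Net.cons 2 (nat_lit 0x2)
 (Net.cons 1 (nat_lit 0x55000014)
 (Net.cons 2 (nat_lit 0x21000002)
 (Net.cons 4 (nat_lit 0xf000002)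
 (Net.cons 8 (nat_lit 0xf00030)
 (Net.cons 16 (nat_lit 0xf00)
 Net.nil)))))))))

noncomputable def nets_7 : Net :=
 (Net.cons 8 (nat_lit 0xf0)
 (Net.cons 1 (nat_lit 0x5505)
 (Net.cons 2 (nat_lit 0x2100)
 (Net.cons 4 (nat_lit 0xf00)
 (Net.cons 8 (nat_lit 0xf0)
 Net.nil)))))

noncomputable def nets : List Net := [Net.nil,
 nets_1,
 nets_2,
 nets_3,
 nets_4,
 nets_5,
 nets_6,
 nets_7]

theorem nets_ok : NetsOK 32 nets := netsOK_of (by decide +kernel)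

theorem nets_rel : Rels (gp nets) R := rels_of_relsB (k := 5) nets_ok (by norm_num) (by decide +kernel)

theorem nets_iv : IvOK (gp nets) iv := ivOK_of_ivB (k := 5) nets_ok (by norm_num) (by decide +kernel)

noncomputable def slp : List (ℕ × List ℕ) := []

theorem slp_ok : slpB 32 5 nets slp L = true := by decide +kernel

theorem mem_all {x : ℕ} (h : x ∈ L ++ slp.map (·.1)) : gp nets x ∈ cl (gp nets) L :=
  cl_eq_of_slpB nets_ok (by norm_num) slp_ok ▸ mem_cl h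

theorem lb : 1451520 ≤ Nat.card (cl (gp nets) L) := by
  rw [← cl_eq_of_slpB nets_ok (by norm_num) slp_ok]
  exact lb_of_chainB nets_ok (C := [([1,2,3,4,5,6],[7,6,4,2,1,3,5,2,4,3,6,7,2,1],0,0,28),
 ([1,2,3,4,5],[6,4,2,1,3,5,2,4,3,6,2,1,4,2,3,5],1,1,27),
 ([1,2,3,4],[5,3,2,1,4,2,3,5],2,2,10),
 ([1,2,3],[4,2,1,3,2,4],12,12,8),
 ([1,2],[3,2,1],4,4,4),
 ([1],[2,1],8,8,3),
 ([],[1],14,14,2)]) (by decide +kernel)

end Cfsg.Lib.Comp.Sp6x
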