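import Cfsg.Agent.Lib.Comp.Sp6x.Perm

set_option maxRecDepth 100000
set_option Elab.async false

namespace Cfsg.Lib.Comp.Sp6x

universe u

noncomputable def T0_R : List (List ℕ × ℕ) := [([1],1),
 ([2],1),
 ([1,2],2),
 ([3],1),
 ([1,3],1),
 ([2,3],2),
 ([4],1),
 ([1,4],1),
 ([3,4],1),
 ([2,4],2),
 ([5],1),
 ([1,5],1),
 ([2,5],1),
 ([4,5],1),
 ([3,5],2),
 ([6],1),
 ([1,6],1),
 ([2,6],1),
 ([3,6],1),
 ([5,6],1),
 ([4,6],2),
 ([7],1),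
 ([1,7],1),
 ([2,7],1),
 ([3,7],1),
 ([4,7],1),
 ([5,7],1),
 ([6,7],2),
 ([1,2,3,4,5,6,7],8)]

theorem nets_rel_T0 : Rels (gp nets) T0_R := nets_rel.mono (by decide +kernel)

theorem T0_fin : finB 32 nets [1,2,3,4,5,6,7] 28 (runH 32 nets (fun x p => ptInv (nth Net.nil nets x) p) iv T0_R [] ([1,2,3,4,5,6].map fun x => [x]) 0 []
  (apd [1,5,9,13,17,21,0,4,12,16,24,32,40,44,48,52,60,68,72,76,84,88,92,96,100,104,108,64,68,72,76,80,100,28,32,36,52,68,72,76,92,96,104,8,20,28,32,36,48,52,56,64,68,72,76,80,88,92,96,100]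
 [104,108,8,16,20,28,32,36,44,48,52,64,68,72,76,80,88,92,108,112,0,28])
  (defsH 32 nets (ones 256) [7,6,4,2,3,5,1,2,3,4,6,7,2,4,6] (Nat.shiftLeft 1 0) 0)) = true := by decide +kernel

theorem T0_idx : Idx.{u} iv (T0_R ++ []) ([1,2,3,4,5,6].map fun x => [x]) [1,2,3,4,5,6,7] 28 :=
  Reach.idx nets_ok (reach_runH nets_ok (fun x p _ => ptInv_gp nets_ok x p) nets_rel_T0 (reach_defsH nets_ok _ _ _ _ _ _) _ _) T0_fin (by norm_num)

end Cfsg.Lib.Comp.Sp6x
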