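import Cfsg.Agent.Lib.Comp.Sp6x.Base

set_option maxRecDepth 100000
set_option Elab.async false

namespace Cfsg.Lib.Comp.Sp6x

universe u

noncomputable def T2_R : List (List ℕ × ℕ) := [([1],1),
 ([2],1),
 ([1,2],2),
 ([3],1),
 ([1,3],1),
 ([2,3],2),
 ([4],1),
 ([1,4],1),
 ([3,4],1),
 ([2,4],2),
 ([5],1),
 ([1,5],1),
 ([2,5],1),
 ([4,5],1),
 ([3,5],2)]

noncomputable def T2_n_1 : Net :=
 (Net.cons 1 (nat_lit 0x20)
 (Net.cons 1 (nat_lit 0x8)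
 Net.nil))

noncomputable def T2_n_2 : Net :=
 (Net.cons 1 (nat_lit 0x4)
 (Net.cons 1 (nat_lit 0x40)
 Net.nil))

noncomputable def T2_n_3 : Net :=
 (Net.cons 1 (nat_lit 0x80)
 (Net.cons 1 (nat_lit 0x2)
 Net.nil))

noncomputable def T2_n_4 : Net :=
 (Net.cons 5 (nat_lit 0x18)
 (Net.cons 1 (nat_lit 0x80)
 (Net.cons 1 (nat_lit 0x140)
 (Net.cons 1 (nat_lit 0xa0)
 (Net.cons 1 (nat_lit 0x140)
 (Net.cons 1 (nat_lit 0x80)
 (Net.cons 5 (nat_lit 0x18)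
 Net.nil)))))))

noncomputable def T2_n_5 : Net :=
 (Net.cons 1 (nat_lit 0x1)
 (Net.cons 1 (nat_lit 0x100)
 Net.nil))

noncomputable def T2_n : List Net := [Net.nil,
 T2_n_1,
 T2_n_2,
 T2_n_3,
 T2_n_4,
 T2_n_5]

theorem T2_n_ok : NetsOK 10 T2_n := netsOK_of (by decide +kernel)

theorem T2_n_rel : Rels (gp T2_n) T2_R := rels_of_relsB (k := 4) T2_n_ok (by norm_num) (by decide +kernel)

theorem T2_fin : finB 10 T2_n [1,2,3,4,5] 10 (runH 10 T2_n (fun x p => ptInv (nth Net.nil T2_n x) p) iv T2_R [] ([1,2,3,4].map fun x => [x]) 0 []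
  [1,5,9,13,0,4,12,24,28,40,44,48,52,56,16,20,32,36,48,52,8,16,20,36,44,48,56,32,52]
  (defsH 10 T2_n (ones 80) [5,3,2,4,1,2,3,5] (Nat.shiftLeft 1 0) 0)) = true := by decide +kernel

theorem T2_idx : Idx.{u} iv (T2_R ++ []) ([1,2,3,4].map fun x => [x]) [1,2,3,4,5] 10 :=
  Reach.idx T2_n_ok (reach_runH T2_n_ok (fun x p _ => ptInv_gp T2_n_ok x p) T2_n_rel (reach_defsH T2_n_ok _ _ _ _ _ _) _ _) T2_fin (by norm_num)

end Cfsg.Lib.Comp.Sp6x
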