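import Cfsg.Agent.Lib.Comp.Sp6x.Base

set_option maxRecDepth 100000
set_option Elab.async false

namespace Cfsg.Lib.Comp.Sp6x

universe u

noncomputable def T6_R : List (List ℕ × ℕ) := [([1],1)]

noncomputable def T6_n_1 : Net :=
 (Net.cons 1 (nat_lit 0x1)
 Net.nil)

noncomputable def T6_n : List Net := [Net.nil,
 T6_n_1]

theorem T6_n_ok : NetsOK 2 T6_n := netsOK_of (by decide +kernel)

theorem T6_n_rel : Rels (gp T6_n) T6_R := rels_of_relsB (k := 1) T6_n_ok (by norm_num) (by decide +kernel)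

theorem T6_fin : finB 2 T6_n [1] 2 (runH 2 T6_n (fun x p => ptInv (nth Net.nil T6_n x) p) iv T6_R [] ([].map fun x => [x]) 0 []
  [0]
  (defsH 2 T6_n (ones 16) [1] (Nat.shiftLeft 1 0) 0)) = true := by decide +kernel

theorem T6_idx : Idx.{u} iv (T6_R ++ []) ([].map fun x => [x]) [1] 2 :=
  Reach.idx T6_n_ok (reach_runH T6_n_ok (fun x p _ => ptInv_gp T6_n_ok x p) T6_n_rel (reach_defsH T6_n_ok _ _ _ _ _ _) _ _) T6_fin (by norm_num)

end Cfsg.Lib.Comp.Sp6x
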